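import Groth.Agent.VarGeom.OpenMap
import Groth.Agent.AlgSpDec.EtCompact
import Groth.Agent.DimFormula.JacobsonLocal
import Groth.Agent.MorLib.Birat
import Mathlib.AlgebraicGeometry.AlgClosed.Basic
import Mathlib.FieldTheory.IsAlgClosed.AlgebraicClosure

/-!
# A dense open of `X` over whose closed points a given dense open of `X ⊗ K` contains everything
-/

set_option autoImplicit false

universe u

open AlgebraicGeometry CategoryTheory CategoryTheory.Limits

namespace Groth.Agent.H9GeomPts

theorem isPullback_map {X S A B : Scheme.{u}} (f : X ⟶ S) (b : A ⟶ S) (a : B ⟶ A) :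
    IsPullback (pullback.map f (a ≫ b) f b (𝟙 X) a (𝟙 S) (by simp) (by simp)) (pullback.snd f (a ≫ b))
      (pullback.snd f b) a := by
  refine IsPullback.of_right ?_ (pullback.lift_snd _ _ _) (IsPullback.of_hasPullback f b)
  rw [show pullback.map f (a ≫ b) f b (𝟙 X) a (𝟙 S) _ _ ≫ pullback.fst f b = pullback.fst f (a ≫ b) from
    (pullback.lift_fst _ _ _).trans (Category.comp_id _)]
  exact IsPullback.of_hasPullback f (a ≫ b)

theorem isPullback_map' {X S A B : Scheme.{u}} (f : X ⟶ S) (b : A ⟶ S) (a : B ⟶ A) (c : B ⟶ S) (h : a ≫ b = c) :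
    ∃ r : pullback f c ⟶ pullback f b, r ≫ pullback.fst f b = pullback.fst f c ∧
      IsPullback r (pullback.snd f c) (pullback.snd f b) a := by
  subst h
  exact ⟨_, (pullback.lift_fst _ _ _).trans (Category.comp_id _), isPullback_map f b a⟩

theorem main {k K : Type u} [Field k] [Field K] [Algebra k K]
    {X : Scheme.{u}} (f : X ⟶ Spec (CommRingCat.of k)) [LocallyOfFiniteType f] [QuasiCompact f]
    (U' : (pullback f (Spec.map (CommRingCat.ofHom (algebraMap k K)))).Opens)
    (hU' : Dense (U' : Set ↥(pullback f (Spec.map (CommRingCat.ofHom (algebraMap k K)))))) :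
    ∃ U : X.Opens, Dense (U : Set ↥X) ∧
      ∀ y : ↥(pullback f (Spec.map (CommRingCat.ofHom (algebraMap k K)))),
        IsClosed ({(pullback.fst f (Spec.map (CommRingCat.ofHom (algebraMap k K)))) y} : Set X) →
        (pullback.fst f (Spec.map (CommRingCat.ofHom (algebraMap k K)))) y ∈ U → y ∈ U' := by
  let K' := AlgebraicClosure K
  let kb := AlgebraicClosure k
  let e : kb →ₐ[k] K' := IsAlgClosed.lift
  let bK := Spec.map (CommRingCat.ofHom (algebraMap k K))
  let bY := Spec.map (CommRingCat.ofHom (algebraMap k kb))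
  let aK := Spec.map (CommRingCat.ofHom (algebraMap K K'))
  let aY := Spec.map (CommRingCat.ofHom e.toRingHom)
  let c := Spec.map (CommRingCat.ofHom (algebraMap k K'))
  obtain ⟨r, hr, sqr⟩ := isPullback_map' f bK aK c (by
    rw [← Spec.map_comp, ← CommRingCat.ofHom_comp, ← IsScalarTower.algebraMap_eq])
  obtain ⟨q, hq, sqq⟩ := isPullback_map' f bY aY c (by
    rw [← Spec.map_comp, ← CommRingCat.ofHom_comp]
    exact congrArg (fun φ => Spec.map (CommRingCat.ofHom φ)) e.comp_algebraMap)
  let π := pullback.fst f bY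
  haveI : UniversallyOpen r := MorphismProperty.of_isPullback sqr.flip inferInstance
  haveI : UniversallyOpen q := MorphismProperty.of_isPullback sqq.flip inferInstance
  haveI : Surjective r := MorphismProperty.of_isPullback sqr.flip inferInstance
  haveI : Surjective q := MorphismProperty.of_isPullback sqq.flip inferInstance
  haveI : IsIntegralHom bY := by
    rw [IsIntegralHom.SpecMap_iff]
    exact (algebraMap_isIntegral_iff (R := k) (A := kb)).2 inferInstance
  haveI : IsIntegralHom π := MorphismProperty.pullback_fst _ _ inferInstance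
  haveI : UniversallyOpen π := MorphismProperty.pullback_fst _ _ inferInstance
  haveI : Surjective π := MorphismProperty.pullback_fst _ _ inferInstance
  have hU'' : Dense (r ⁻¹' (U' : Set _)) := hU'.preimage r.isOpenMap
  let V : Set ↥(pullback f bY) := q '' (r ⁻¹' (U' : Set _))
  have hVo : IsOpen V := q.isOpenMap _ (U'.2.preimage r.continuous)
  have hVd : Dense V := q.surjective.denseRange.dense_image q.continuous hU''
  let N : Set X := π '' Vᶜ
  have hN : IsClosed N := π.isClosedMap _ hVo.isClosed_compl
  refine ⟨⟨Nᶜ, hN.isOpen_compl⟩, ?_, ?_⟩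
  · haveI : LocallyOfFiniteType (pullback.snd f bY) := MorphismProperty.pullback_snd _ _ inferInstance
    haveI : JacobsonSpace ↥(pullback f bY) := LocallyOfFiniteType.jacobsonSpace (pullback.snd f bY)
    haveI : IsLocallyNoetherian (pullback f bY) := LocallyOfFiniteType.isLocallyNoetherian (pullback.snd f bY)
    refine Groth.Agent.MorLib.Birat.dense_of_genericPoints fun η hη => ?_
    rintro ⟨z, hz, hzη⟩
    refine hz (Groth.Agent.DimFormula.dense_mem_maximal hVo hVd fun z' hz' => ?_)
    refine Groth.Agent.AlgSpDec.eq_of_specializes_of_isIntegralHom π hz' ?_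
    rw [hzη]
    exact Groth.Agent.MorLib.Birat.eq_of_specializes_generic hη (hzη ▸ hz'.map π.continuous)
  · intro y hy hyU
    obtain ⟨z, rfl⟩ := r.surjective y
    have hπ : π (q z) = pullback.fst f bK (r z) := by
      rw [← Scheme.Hom.comp_apply, ← Scheme.Hom.comp_apply, hr, hq]
    have hwV : q z ∈ V := by
      by_contra h
      exact hyU ⟨q z, h, hπ⟩
    have hw : IsClosed ({q z} : Set ↥(pullback f bY)) := by
      refine closure_subset_iff_isClosed.1 fun v hv => ?_
      have hsp : q z ⤳ v := specializes_iff_mem_closure.2 hv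
      have h1 : π v = pullback.fst f bK (r z) :=
        (specializes_iff_mem_closure.1 (hπ ▸ hsp.map π.continuous)) |> fun h => by rwa [hy.closure_eq] at h
      exact (Groth.Agent.AlgSpDec.eq_of_specializes_of_isIntegralHom π hsp (hπ.trans h1.symm)).symm
    let pY := pullback.snd f bY
    haveI : LocallyOfFiniteType pY := MorphismProperty.pullback_snd _ _ inferInstance
    let s := pointOfClosedPoint pY (q z) hw
    have hs : s ≫ pY = 𝟙 _ := pointOfClosedPoint_comp _ _ _
    let s' := sqq.lift (aY ≫ s) (𝟙 _) (by rw [Category.assoc, hs, Category.comp_id, Category.id_comp])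
    have sqs : IsPullback s' aY q s := by
      refine (IsPullback.of_bot ?_ (sqq.lift_fst _ _ _).symm sqq).flip
      rw [sqq.lift_snd, hs]
      exact IsPullback.of_vert_isIso ⟨by simp⟩
    obtain ⟨z₀, hz₀, hqz₀⟩ := hwV
    obtain ⟨t, ht, -⟩ := Scheme.exists_preimage_of_isPullback sqs z (IsLocalRing.closedPoint kb)
      (pointOfClosedPoint_apply pY (q z) hw _).symm
    obtain ⟨t₀, ht₀, -⟩ := Scheme.exists_preimage_of_isPullback sqs z₀ (IsLocalRing.closedPoint kb)
      (hqz₀.trans (pointOfClosedPoint_apply pY (q z) hw _).symm)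
    rw [← ht, Subsingleton.elim t t₀, ht₀]
    exact hz₀

end Groth.Agent.H9GeomPts
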